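import Groth.Agent.SymAlg.Degree
import Groth.Agent.NeronArea.SymSmooth
import Groth.Agent.Ega2Proj.ToAway
import Groth.Agent.Ega2Proj2.RelProjBasic
import Groth.Agent.LocFree.Affine
import Mathlib

/-!
The projective bundle of a finite locally free module is smooth.
-/

set_option autoImplicit false
universe u

open CategoryTheory CategoryTheory.Limits AlgebraicGeometry Opposite TopologicalSpace

noncomputable section

namespace Groth.Misc5Fact

/-- A retract of a formally smooth algebra is formally smooth. -/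
theorem formallySmooth_of_retract {R L A : Type u} [CommRing R] [CommRing L] [CommRing A] [Algebra R L]
    [Algebra R A] [Algebra.FormallySmooth R L] (r : L →ₐ[R] A) (i : A →ₐ[R] L) (h : ∀ a, r (i a) = a) :
    Algebra.FormallySmooth R A := by
  refine Algebra.FormallySmooth.of_comp_surjective fun Q _ _ J hJ f => ?_
  obtain ⟨g, hg⟩ := Algebra.FormallySmooth.comp_surjective R L J hJ (f.comp r)
  refine ⟨g.comp i, AlgHom.ext fun a => ?_⟩
  exact (AlgHom.congr_fun hg (i a)).trans (congrArg f (h a))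

variable {A : Type u} [CommRing A] (𝒜 : ℕ → AddSubgroup A) [GradedRing 𝒜]

/-- The standard affine piece of the `Proj` of a smooth graded algebra is smooth. -/
theorem smooth_away {R : Type u} [CommRing R] (φ : R →+* A) (hφ : ∀ r, φ r ∈ 𝒜 0) (hs : φ.Smooth)
    {t : A} (ht : t ∈ 𝒜 1) :
    ((HomogeneousLocalization.fromZeroRingHom 𝒜 (Submonoid.powers t)).comp
      (φ.codRestrict (SetLike.GradeZero.subring 𝒜) hφ)).Smooth := by
  let ψ := (HomogeneousLocalization.fromZeroRingHom 𝒜 (Submonoid.powers t)).comp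
      (φ.codRestrict (SetLike.GradeZero.subring 𝒜) hφ)
  algebraize [φ]
  letI : Algebra R (HomogeneousLocalization.Away 𝒜 t) := ψ.toAlgebra
  have : Algebra.Smooth R A := hs
  let L := Localization.Away t
  have : Algebra.Smooth A L := ⟨inferInstance, inferInstance⟩
  have : Algebra.Smooth R L := Algebra.Smooth.comp R A L
  let β : A →+* HomogeneousLocalization.Away 𝒜 t :=
    Groth.Ega2Proj.toAway 𝒜 𝒜 ht (RingHom.id A) (fun n a ha => by rw [smul_eq_mul, mul_one]; exact ha)
  have hv : ∀ {n : ℕ} {a : A}, a ∈ 𝒜 n → (β a).val =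
      Localization.mk a ⟨t ^ n, pow_mem (Submonoid.mem_powers t) n⟩ :=
    fun ha => Groth.Ega2Proj.toAway_of_mem_val _ _ _ _ _ ha
  have hβt : β t = 1 := by
    refine HomogeneousLocalization.val_injective _ ?_
    rw [hv ht, HomogeneousLocalization.val_one]
    simp only [pow_one]
    exact Localization.mk_self (⟨t, Submonoid.mem_powers t⟩ : Submonoid.powers t)
  let ρ : L →+* HomogeneousLocalization.Away 𝒜 t :=
    IsLocalization.Away.lift t (g := β) (hβt ▸ isUnit_one)
  have hρ : ∀ a, ρ (algebraMap A L a) = β a := IsLocalization.Away.lift_eq t _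
  have hval : ∀ r : R, (ψ r).val = algebraMap A L (φ r) := fun r => by
    rw [← Localization.mk_one_eq_algebraMap]
    rfl
  have hβφ : ∀ r : R, β (φ r) = ψ r := fun r => by
    refine HomogeneousLocalization.val_injective _ ?_
    rw [hv (hφ r), hval, ← Localization.mk_one_eq_algebraMap]
    simp only [pow_zero]
    rfl
  let rA : L →ₐ[R] HomogeneousLocalization.Away 𝒜 t :=
    AlgHom.mk ρ (fun r => by
      change ρ (algebraMap R L r) = ψ r
      rw [IsScalarTower.algebraMap_apply R A L, hρ]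
      exact hβφ r)
  let iA : HomogeneousLocalization.Away 𝒜 t →ₐ[R] L :=
    AlgHom.mk (algebraMap (HomogeneousLocalization.Away 𝒜 t) L) (fun r => by
      change (ψ r).val = algebraMap R L r
      rw [hval, IsScalarTower.algebraMap_apply R A L]
      rfl)
  have hri : ∀ a, rA (iA a) = a := by
    intro x
    obtain ⟨n, a, ha, rfl⟩ := HomogeneousLocalization.Away.mk_surjective 𝒜 ht x
    change ρ (HomogeneousLocalization.Away.mk 𝒜 ht n a ha).val = _
    rw [HomogeneousLocalization.Away.val_mk]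
    have e : ρ (Localization.mk a ⟨t ^ n, pow_mem (Submonoid.mem_powers t) n⟩) *
        ρ (algebraMap A L (t ^ n)) = ρ (algebraMap A L a) := by
      rw [← map_mul, Localization.mk_eq_mk']
      exact congrArg ρ (IsLocalization.mk'_spec L a ⟨t ^ n, pow_mem (Submonoid.mem_powers t) n⟩)
    rw [hρ, hρ, map_pow, hβt, one_pow, mul_one] at e
    refine e.trans ?_
    refine HomogeneousLocalization.val_injective _ ?_
    rw [hv (n := n) (by simpa using ha), HomogeneousLocalization.Away.val_mk]
  exact ⟨formallySmooth_of_retract rA iA hri,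
    Groth.NeronArea.SymSmooth.finitePresentation_of_retract rA iA hri⟩

section Bundle

open Groth.SymAlg Groth.QCohMod

variable {S P : Scheme.{u}} {E : S.Modules} {𝒮 : RelProj.QCGrAlg S} {j : E ⟶ 𝒮.toModule} {p : P ⟶ S}
  {chart : ∀ (U : S.Opens) (hU : IsAffineOpen U), (((p ⁻¹ᵁ U : P.Opens) : Scheme.{u}) ≅ Proj (𝒮.deg U hU))}

theorem smooth_str (hE : FlatMod.IsFinLocFree E) (h : RelProj.IsGrSymAlg E 𝒮 j) {U : S.Opens}
    (hU : IsAffineOpen U) : (bstr 𝒮.toQCAlg U).Smooth := by
  have : E.IsQuasicoherent := Groth.KTheory.LocFree.isQCoh hE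
  have := (Groth.LocFree.finite_projective_sections hE hU).1
  have := (Groth.LocFree.finite_projective_sections hE hU).2
  let e := RingEquiv.ofBijective _ (bijective_liftSec h.1 hU)
  algebraize [bstr 𝒮.toQCAlg U]
  let eA : SymmetricAlgebra Γ(S, U) Γ(E, U) ≃ₐ[Γ(S, U)] BSec 𝒮.toQCAlg U :=
    AlgEquiv.ofRingEquiv (f := e) fun r => liftSec_algebraMap _ _ _ r
  exact Algebra.Smooth.of_equiv eA

theorem smooth_relProj_sym (hE : FlatMod.IsFinLocFree E) (h : RelProj.IsGrSymAlg E 𝒮 j)
    (hP : RelProj.IsRelProj 𝒮 p chart) : Smooth p := by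
  have : E.IsQuasicoherent := Groth.KTheory.LocFree.isQCoh hE
  have key : ∀ x : P, ∃ (W : Scheme.{u}) (g : W ⟶ P), IsOpenImmersion g ∧ x ∈ Set.range g ∧ Smooth (g ≫ p) := by
    intro x
    obtain ⟨U, hU, hxU, -⟩ := exists_isAffineOpen_mem_and_subset (x := p x) (U := ⊤) trivial
    obtain ⟨y, hy⟩ : ∃ y, RelProj.emb p chart U hU y = x := by
      refine ⟨(chart U hU).hom ⟨x, hxU⟩, ?_⟩
      rw [RelProj.emb, ← Scheme.Hom.comp_apply, Iso.hom_inv_id_assoc]
      rfl
    obtain ⟨e, he⟩ := exists_notMem h hU y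
    refine ⟨_, Proj.awayι (𝒮.deg U hU) _ (h.2 U hU e) one_pos ≫ RelProj.emb p chart U hU,
      inferInstance, ?_, ?_⟩
    · obtain ⟨z, hz⟩ : y ∈ Set.range (Proj.awayι (𝒮.deg U hU) _ (h.2 U hU e) one_pos) := by
        rw [← Scheme.Hom.coe_opensRange, Proj.opensRange_awayι]
        exact he
      exact ⟨z, by rw [Scheme.Hom.comp_apply, hz, hy]⟩
    · have hsm := smooth_away (𝒮.deg U hU) _ (𝒮.str_mem U hU) (smooth_str hE h hU)
        (h.2 U hU e : _ ∈ 𝒮.deg U hU 1)
      rw [Category.assoc, Groth.Ega2P2.emb_p hP U hU, Proj.awayι_toSpecZero_assoc, ← Spec.map_comp_assoc]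
      have : Smooth (Spec.map (𝒮.strZero U hU ≫ CommRingCat.ofHom (HomogeneousLocalization.fromZeroRingHom
          (𝒮.deg U hU) (Submonoid.powers (toB 𝒮.toQCAlg (j.app U e)))))) := by
        rw [HasRingHomProperty.Spec_iff (P := @Smooth)]
        exact hsm
      exact MorphismProperty.comp_mem (W := @Smooth) _ _ this inferInstance
  choose W g hg hx hs using key
  let 𝒰 : P.OpenCover := Scheme.Cover.mkOfCovers P W g (fun x => ⟨x, (hx x).choose, (hx x).choose_spec⟩) hg
  exact IsZariskiLocalAtSource.of_openCover (P := @Smooth) 𝒰 hs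

end Bundle

end Groth.Misc5Fact
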