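import Groth.Agent.Misc5Fact.BundleSmooth
import Groth.Agent.S5729
import Groth.Agent.S8292
import Groth.Agent.S1109
import Groth.Agent.QCohMod.Category
import Groth.Agent.Agf.RegularPoints
import Groth.Agent.S8855

/-!
Projective morphisms to schemes with the resolution property factor through smooth projective bundles.
-/

set_option autoImplicit false
universe u

open CategoryTheory CategoryTheory.Limits AlgebraicGeometry Opposite TopologicalSpace Polynomial
open scoped HomogeneousIdeal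

set_option backward.isDefEq.respectTransparency.types false

noncomputable section

namespace Groth.Misc5Fact

open Groth.SymAlg
open Groth.QCohMod (BSec bstr toB)

variable {S : Scheme.{u}}

theorem hom_app_toModuleMap {A B : RelSpec.QCAlg S} {E : S.Modules} (j : E ⟶ A.toModule) (ψ : A ⟶ B)
    (u : E ⟶ B.toModule) (hu : j ≫ RelSpec.QCAlg.Hom.toModuleMap ψ = u) (U : S.Opens) (e : Γ(E, U)) :
    (ψ.hom.app (op U)).hom (toB A (j.app U e)) = toB B (u.app U e) :=
  congr($(hu).app U e)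

theorem liftSec_coeff_mem {E : S.Modules} {𝒯 : RelProj.QCGrAlg S} (u : E ⟶ 𝒯.toModule) {U : S.Opens}
    (hU : IsAffineOpen U) (hu : ∀ e, toB 𝒯.toQCAlg (u.app U e) ∈ 𝒯.deg U hU 1) :
    ∀ (q : SymmetricAlgebra Γ(S, U) Γ(E, U)) (k : ℕ),
      liftSec 𝒯.toQCAlg u U ((symCo Γ(S, U) Γ(E, U) q).coeff k) ∈ 𝒯.deg U hU k := by
  intro q
  induction q using SymmetricAlgebra.induction with
  | algebraMap r =>
    intro k
    rw [symCo_algebraMap, coeff_C]
    split_ifs with hk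
    · subst hk; rw [liftSec_algebraMap]; exact 𝒯.str_mem U hU r
    · rw [map_zero]; exact zero_mem _
  | ι e =>
    intro k
    rw [symCo_ι, coeff_monomial]
    split_ifs with hk
    · subst hk; rw [liftSec_ι]; exact hu e
    · rw [map_zero]; exact zero_mem _
  | mul a b ha hb =>
    intro k
    rw [map_mul, coeff_mul, map_sum]
    refine sum_mem fun c hc => ?_
    rw [map_mul, ← Finset.HasAntidiagonal.mem_antidiagonal.1 hc]
    exact SetLike.mul_mem_graded (ha c.1) (hb c.2)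
  | add a b ha hb =>
    intro k
    rw [map_add, coeff_add, map_add]
    exact add_mem (ha k) (hb k)

theorem isGradedHom_of_deg_one {E : S.Modules} [E.IsQuasicoherent] {𝒜 ℬ : RelProj.QCGrAlg S}
    {j : E ⟶ 𝒜.toModule} (h : RelProj.IsGrSymAlg E 𝒜 j) (ψ : 𝒜.toQCAlg ⟶ ℬ.toQCAlg) (u : E ⟶ ℬ.toModule)
    (hψ : j ≫ RelSpec.QCAlg.Hom.toModuleMap ψ = u)
    (hu : ∀ (U : S.Opens) (hU : IsAffineOpen U) (e : Γ(E, U)), toB ℬ.toQCAlg (u.app U e) ∈ ℬ.deg U hU 1) :
    RelProj.IsGradedHom ψ := by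
  intro U hU d x hx
  obtain ⟨q, hq, rfl⟩ := exists_eq_liftSec h hU hx
  have h1 : (ψ.hom.app (op U)).hom.comp (liftSec 𝒜.toQCAlg j U) = liftSec ℬ.toQCAlg u U := ringHom_ext
    (fun r => by rw [RingHom.comp_apply, liftSec_algebraMap, liftSec_algebraMap, hom_app_str])
    (fun e => by rw [RingHom.comp_apply, liftSec_ι, liftSec_ι, hom_app_toModuleMap j ψ u hψ])
  have := liftSec_coeff_mem u hU (hu U hU) q d
  rw [(mem_wt _).1 hq, coeff_monomial, if_pos rfl] at this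
  exact (RingHom.congr_fun h1 q).symm ▸ this

/-- An epimorphism of modules gives a closed immersion of projective bundles. -/
theorem exists_closedImmersion_bundle {Y P Q : Scheme.{u}} {E F : Y.Modules} [E.IsQuasicoherent]
    [F.IsQuasicoherent] (π : F ⟶ E) [Epi π] {𝒯 𝒜 : RelProj.QCGrAlg Y} {j : E ⟶ 𝒯.toModule}
    {j' : F ⟶ 𝒜.toModule} (hj : RelProj.IsGrSymAlg E 𝒯 j) (hj' : RelProj.IsGrSymAlg F 𝒜 j')
    {p : P ⟶ Y} {q : Q ⟶ Y}
    {chart : ∀ (U : Y.Opens) (hU : IsAffineOpen U), ((p ⁻¹ᵁ U : P.Opens) : Scheme.{u}) ≅ Proj (𝒯.deg U hU)}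
    {chartQ : ∀ (U : Y.Opens) (hU : IsAffineOpen U), ((q ⁻¹ᵁ U : Q.Opens) : Scheme.{u}) ≅ Proj (𝒜.deg U hU)}
    (hP : RelProj.IsRelProj 𝒯 p chart) (hQ : RelProj.IsRelProj 𝒜 q chartQ) :
    ∃ r : P ⟶ Q, IsClosedImmersion r ∧ r ≫ q = p := by
  obtain ⟨ψ, hψ, -⟩ := hj'.1 𝒯.toQCAlg (π ≫ j)
  have hgr : RelProj.IsGradedHom ψ :=
    isGradedHom_of_deg_one hj' ψ (π ≫ j) hψ fun U hU e => hj.2 U hU _
  have hlift : ∀ (U : Y.Opens) (hU : IsAffineOpen U) (e : Γ(E, U)),
      ∃ a ∈ 𝒜.deg U hU 1, RelProj.gradedHomAt ψ hgr U hU a = toB 𝒯.toQCAlg (j.app U e) := by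
    intro U hU e
    obtain ⟨e', rfl⟩ := Groth.QCohMod.app_surjective_of_epi π hU e
    exact ⟨_, hj'.2 U hU e', hom_app_toModuleMap j' ψ (π ≫ j) hψ U e'⟩
  have hirr : ∀ (U : Y.Opens) (hU : IsAffineOpen U),
      (𝒯.deg U hU)₊ ≤ ((𝒜.deg U hU)₊).map (RelProj.gradedHomAt ψ hgr U hU) := by
    intro U hU
    show ((𝒯.deg U hU)₊).toIdeal ≤ Ideal.map (RelProj.gradedHomAt ψ hgr U hU) ((𝒜.deg U hU)₊).toIdeal
    rw [HomogeneousIdeal.toIdeal_irrelevant_le]
    intro k hk x hx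
    refine mem_of_range_le hj hU (fun e => ?_) hk hx
    obtain ⟨a, ha, hae⟩ := hlift U hU e
    rw [← hae]
    exact Ideal.mem_map_of_mem _ (HomogeneousIdeal.mem_irrelevant_of_mem _ one_pos ha)
  obtain ⟨r, hr, -⟩ := Groth.Ega2P2.existsUnique_relProjMap ψ hgr hirr hQ hP
  refine ⟨r, ?_, Groth.Ega2P2.relProjMap_comp_p ψ hgr hirr hQ hP r hr⟩
  exact Groth.Agent.S8292.result 𝒯 𝒜 (isGenDegOne hj) F ‹F.IsQuasicoherent› (π ≫ j)
    (fun U hU e => hj.2 U hU _) (fun U hU s hs => by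
      obtain ⟨e, rfl⟩ := Groth.Ega2Proj.exists_eq_of_deg_one hj hU hs
      obtain ⟨e', rfl⟩ := Groth.QCohMod.app_surjective_of_epi π hU e
      exact ⟨e', rfl⟩)
    j' hj' ψ hgr hψ hirr q p chartQ chart hQ hP r hr

/-- A projective morphism to a scheme with the resolution property is a closed subscheme of a smooth
projective bundle. -/
theorem exists_smooth_projective_factor {X Y : Scheme.{u}} (f : X ⟶ Y) (hf : RelProj.IsProjective f)
    (hres : PerfAux.HasResolutionProperty Y) :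
    ∃ (P : Scheme.{u}) (i : X ⟶ P) (g : P ⟶ Y),
      IsClosedImmersion i ∧ Smooth g ∧ RelProj.IsProjective g ∧ i ≫ g = f := by
  obtain ⟨E, 𝒯, j, P, p, chart, i, hE, hFT, hj, hP, hi, hip⟩ := (Groth.Agent.S5729.result f).1 hf
  have := hi
  have : E.IsQuasicoherent := hE
  obtain ⟨F, π, hF, hπ⟩ := hres E hE hFT
  have hFq : F.IsQuasicoherent := Groth.KTheory.LocFree.isQCoh hF
  obtain ⟨𝒜, j', hj'⟩ : ∃ (𝒜 : RelProj.QCGrAlg Y) (j' : F ⟶ 𝒜.toModule), RelProj.IsGrSymAlg F 𝒜 j' :=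
    ⟨_, _, isGrSymAlg_symGr (E := F)⟩
  obtain ⟨Q, q, chartQ, hQ⟩ := Groth.Ega2P2.exists_isRelProj 𝒜
  obtain ⟨r, hrc, hrq⟩ := exists_closedImmersion_bundle π hj hj' hP hQ
  refine ⟨Q, i ≫ r, q, inferInstance, smooth_relProj_sym hF hj' hQ,
    ⟨𝒜, Q, q, chartQ, Iso.refl Q, isGenDegOne hj',
      Groth.Ega2Proj.isFTDeg_one_sym hj'
        (fun U hU => (Groth.LocFree.finite_projective_sections hF hU).1), hQ, Category.id_comp q⟩, ?_⟩
  rw [Category.assoc, hrq, hip]

theorem resolutionProperty_of_regular (S : Scheme.{u}) [IsNoetherian S] [S.IsSeparated]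
    (hS : ∀ s : S, IsRegularLocalRing (S.presheaf.stalk s)) : PerfAux.HasResolutionProperty S :=
  Groth.Agent.S1109.result S hS fun _ _ hU hV => hU.inf hV

/-- Open subschemes of projective schemes over a regular separated Noetherian base embed into smooth
quasi-projective schemes. -/
theorem exists_smooth_quasiProjective_factor {X S : Scheme.{u}} (f : X ⟶ S) [IsNoetherian S] [S.IsSeparated]
    (hS : ∀ s : S, IsRegularLocalRing (S.presheaf.stalk s))
    (hf : ∃ (Z : Scheme.{u}) (v : X ⟶ Z) (q : Z ⟶ S), IsOpenImmersion v ∧ RelProj.IsProjective q ∧ v ≫ q = f) :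
    ∃ (W : Scheme.{u}) (i : X ⟶ W) (p : W ⟶ S), IsClosedImmersion i ∧ Smooth p ∧
      (∃ (P : Scheme.{u}) (v : W ⟶ P) (q : P ⟶ S), IsOpenImmersion v ∧ RelProj.IsProjective q ∧ v ≫ q = p) ∧
      i ≫ p = f := by
  obtain ⟨Z, v, q, hv, hq, rfl⟩ := hf
  obtain ⟨P, j, g, hj, hg, hgp, rfl⟩ :=
    exists_smooth_projective_factor q hq (resolutionProperty_of_regular S hS)
  let W : P.Opens := (v ≫ j).coborderRange
  refine ⟨W, (v ≫ j).liftCoborder, W.ι ≫ g, inferInstance, inferInstance,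
    ⟨P, W.ι, g, inferInstance, hgp, rfl⟩, ?_⟩
  rw [← Category.assoc, Scheme.Hom.liftCoborder_ι, Category.assoc]

theorem isRegularImmersion_of_smooth_factor {X W S : Scheme.{u}} (i : X ⟶ W) (p : W ⟶ S)
    [IsClosedImmersion i] [Smooth p] [IsLocallyNoetherian S]
    (hS : ∀ s : S, IsRegularLocalRing (S.presheaf.stalk s))
    (hX : ∀ x : X, IsRegularLocalRing (X.presheaf.stalk x)) :
    RegImm.IsRegularImmersion RegImm.Kind.regular i := by
  have : IsLocallyNoetherian W := LocallyOfFiniteType.isLocallyNoetherian p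
  have : IsLocallyNoetherian X := LocallyOfFiniteType.isLocallyNoetherian i
  refine Groth.Agent.S8855.result i (fun w => ?_) hX
  have := hS (p w)
  exact Groth.Agf.RegularPoints.isRegularLocalRing_stalk_of_smooth p w

end Groth.Misc5Fact
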