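import Groth.Agent.FlatmorThree.Resolution
import Groth.Agent.PicAux.Powers
import Groth.Prelude.Def_KSix
import Groth.Agent.FlatmorThree.AmpleFamily
import Groth.Agent.Chow.QcohExtend
import Groth.Agent.HilbStab.Mult
import Groth.Agent.KTheory.LocFree
import Groth.Agent.LocFree.Basic
import Groth.Prelude.Def_PerfAux

/-!
Quotients of sums of negative powers of an ample family.
-/

universe u

open CategoryTheory CategoryTheory.Limits AlgebraicGeometry Opposite TopologicalSpace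

attribute [local instance] HasDerivedCategory.standard

set_option backward.isDefEq.respectTransparency.types false

namespace Groth.Misc5Fact.NegPow

open Groth.PicAux Groth.PropsBasic.Ample Groth.Chow

open Groth.FlatmorThree.ResProp

variable {X : Scheme.{u}}

/-- Maps out of inverses of powers, one for each of finitely many spanning sections over an affine locus. -/
theorem exists_generators_pow [CompactSpace X] [IsAffineHom (pullback.diagonal (terminal.from X))] (F : X.Modules)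
    [F.IsQuasicoherent] (hF : CohB1.IsFT F) {P : X.Modules} (hP : PicF.IsInvertible P) (T : Γ(P, ⊤))
    (hT : IsAffineOpen (gloc T)) :
    ∃ (Q : X.Modules) (k : ℕ) (m : ℕ) (ψ : Fin m → (Q ⟶ F)) (S : Set Γ(F, gloc T)), 0 < k ∧
      Nonempty (CohB1.tensorMod Q (CohB1.tensorPow P k) ≅ Coh.structureModule X) ∧ LocSpan F (gloc T) S ∧ ∀ s ∈ S, ∃ (i : Fin m) (q : Γ(Q, gloc T)), (ψ i).app (gloc T) q = s := by
  classical
  obtain ⟨S, hS⟩ := exists_locSpan F hF hT
  choose k₀ hk₀ using fun g : Γ(F, gloc T) => exists_extend_of_affineDiag F hP T g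
  let k := S.sup k₀ + 1
  have hPk := isInvertible_tensorPow hP k
  choose b hb using fun g : S => hk₀ g.1 k ((Finset.le_sup g.2).trans (Nat.le_succ _))
  obtain ⟨Q, hQ, ⟨ε⟩⟩ := exists_inverse hPk
  let α : CohB1.tensorMod (CohB1.tensorMod F (CohB1.tensorPow P k)) Q ≅ F :=
    (exists_associator _ _ _).choose ≪≫
      PicGrp.tensorModIso (Iso.refl F) ((exists_braiding _ _).choose ≪≫ ε) ≪≫ SecTwist.unitorR F
  obtain ⟨U, e, hU, hxU, he, hcov⟩ := PropsBasic.Ample.exists_gen_cover hQ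
  let W := gloc T
  have hgen := (gen_gloc T le_rfl).pow k
  obtain ⟨q, hq⟩ : ∃ q : Γ(Q, W), Gen Q W q := exists_gen_of_inverse hgen ε
  let eqv := (Finset.equivFin S)
  let m₀ := fun g : S => HilbStab.mulSec (b g) Q ≫ (exists_braiding Q _).choose.hom ≫ α.hom
  refine ⟨Q, k, S.card, fun i => m₀ (eqv.symm i), _, Nat.succ_pos _, ⟨ε⟩, (hS.tensor hgen).tensor hq |>.map α, ?_⟩
  rintro _ ⟨_, ⟨_, ⟨g, hg, rfl⟩, rfl⟩, rfl⟩
  refine ⟨eqv ⟨g, hg⟩, q, ?_⟩
  simp only [Equiv.symm_apply_apply, m₀, Scheme.Modules.Hom.comp_app, ConcreteCategory.comp_apply,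
    HilbStab.mulSec_app]
  rw [(exists_braiding Q _).choose_spec]
  congr 2
  exact hb ⟨g, hg⟩

/-- Every module of finite type is a quotient of a sum of negative powers. -/
theorem exists_negPow_cover {ι : Type u} (L : ι → X.Modules) (hL : KSix.IsAmpleFamily L) (F : X.Modules)
    (hqc : Coh.IsQCoh F) (hF : CohB1.IsFT F) : ∃ (M : X.Modules) (π : M ⟶ F), KSix.InAddL L M ∧ Epi π := by
  haveI := hL.1
  haveI := isAffineHom_diagonal_of_hasAmpleFamily (X := X) ⟨hL.1, fun x => by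
    obtain ⟨i, n, s, h1, h2⟩ := hL.2.2.2 x
    exact ⟨L i, n + 1, s, hL.2.2.1 i, Nat.succ_pos n, h1, h2⟩⟩
  haveI : F.IsQuasicoherent := hqc
  choose ix n s hx hs using hL.2.2.2
  obtain ⟨t, ht⟩ := isCompact_univ.elim_finite_subcover
    (fun x => (CohB1.genLocus (CohB1.tensorPow (L (ix x)) (n x + 1)) (s x) : Set X))
    (fun x => Opens.isOpen _) (fun x _ => Set.mem_iUnion.2 ⟨x, hx x⟩)
  choose Q k m ψ S hk hε hS hSψ using fun x : t => exists_generators_pow F hF
    (isInvertible_tensorPow (hL.2.2.1 (ix x.1)) (n x.1 + 1))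
    (gsec (s x.1)) (by rw [← genLocus_eq_gloc]; exact hs x.1)
  let N := Fintype.card (Σ x : t, Fin (m x))
  let e : (Σ x : t, Fin (m x)) ≃ Fin N := Fintype.equivFin _
  let G : Fin N → X.Modules := fun i => Q (e.symm i).1
  refine ⟨⨁ G, biproduct.desc fun i => ψ (e.symm i).1 (e.symm i).2, ⟨N, G, fun i => ?_, ⟨Iso.refl _⟩⟩,
    ⟨fun {Z} a a' ha => ?_⟩⟩
  · refine ⟨ix (e.symm i).1.1, (n (e.symm i).1.1 + 1) * k (e.symm i).1, Nat.mul_pos (Nat.succ_pos _) (hk _), ?_⟩
    exact ⟨PicGrp.tensorModIso (Iso.refl _) (tensorPow_mul _ _ _).some ≪≫ (hε _).some⟩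
  have hψ : ∀ (x : t) (i : Fin (m x)), ψ x i ≫ a = ψ x i ≫ a' := fun x i => by
    have h1 := congrArg (biproduct.ι G (e ⟨x, i⟩) ≫ ·) ha
    simp only [biproduct.ι_desc_assoc] at h1
    have key : ∀ p : Σ x : t, Fin (m x), p = ⟨x, i⟩ → ψ p.1 p.2 ≫ a = ψ p.1 p.2 ≫ a' →
        ψ x i ≫ a = ψ x i ≫ a' := fun p hp h2 => by
      subst hp
      exact h2
    exact key _ (e.symm_apply_apply _) h1
  refine hom_ext_cover (U := fun x : t => gloc (gsec (s x.1))) (top_le_iff.1 fun y _ => ?_) fun x V hV y => ?_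
  · obtain ⟨x, hx⟩ := Set.mem_iUnion₂.1 (ht (Set.mem_univ y))
    refine Opens.mem_iSup.2 ⟨⟨x, hx.1⟩, ?_⟩
    rw [← genLocus_eq_gloc]
    exact hx.2
  choose V' h1 h2 hy' hmem using hS x V hV y
  refine res_ext (fun z : V => V' z.1 z.2) (fun z => h1 z.1 z.2)
    (fun z hz => Opens.mem_iSup.2 ⟨⟨z, hz⟩, hy' z hz⟩) fun z => ?_
  rw [← app_res, ← app_res]
  have hm := hmem z.1 z.2
  generalize res F (h1 z.1 z.2) y = y' at hm ⊢
  induction hm using Submodule.span_induction with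
  | mem w hw =>
    obtain ⟨g, hg, rfl⟩ := hw
    obtain ⟨i, q, rfl⟩ := hSψ x g hg
    rw [← app_res (ψ x i)]
    have := congr(($(hψ x i)).app _ (res (Q x) (h2 z.1 z.2) q))
    simp only [Scheme.Modules.Hom.comp_app, ConcreteCategory.comp_apply] at this
    exact this
  | zero => rw [map_zero, map_zero]
  | add p p' _ _ hp hp' => rw [map_add, map_add, hp, hp']
  | smul r p _ hp => rw [Scheme.Modules.Hom.app_smul, Scheme.Modules.Hom.app_smul, hp]

end Groth.Misc5Fact.NegPow
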