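import Groth.Agent.Misc5Fact.Factor
import Groth.Agent.S8287
import Groth.Agent.S8284
import Groth.Agent.Ega2Proj.RelAmple

/-!
Quotients of modules: the induced map of projective bundles and the fundamental sheaves.
-/

set_option autoImplicit false
universe u

open CategoryTheory CategoryTheory.Limits AlgebraicGeometry Opposite TopologicalSpace
open scoped HomogeneousIdeal

set_option backward.isDefEq.respectTransparency.types false

noncomputable section

namespace Groth.Misc5Fact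

open Groth.SymAlg
open Groth.QCohMod (BSec bstr toB)

/-- The fundamental sheaf of the projective bundle of a quotient module is ample when that of the module is. -/
theorem isAmple_relTwist_of_epi {Y P Q : Scheme.{u}} {E F : Y.Modules} [E.IsQuasicoherent]
    [F.IsQuasicoherent] (π : F ⟶ E) [Epi π] {𝒯 𝒜 : RelProj.QCGrAlg Y} {j : E ⟶ 𝒯.toModule}
    {j' : F ⟶ 𝒜.toModule} (hj : RelProj.IsGrSymAlg E 𝒯 j) (hj' : RelProj.IsGrSymAlg F 𝒜 j')
    {p : P ⟶ Y} {q : Q ⟶ Y}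
    {chart : ∀ (U : Y.Opens) (hU : IsAffineOpen U), ((p ⁻¹ᵁ U : P.Opens) : Scheme.{u}) ≅ Proj (𝒯.deg U hU)}
    {chartQ : ∀ (U : Y.Opens) (hU : IsAffineOpen U), ((q ⁻¹ᵁ U : Q.Opens) : Scheme.{u}) ≅ Proj (𝒜.deg U hU)}
    (hP : RelProj.IsRelProj 𝒯 p chart) (hQ : RelProj.IsRelProj 𝒜 q chartQ)
    (LQ : Q.Modules)
    (lamQ : ∀ (U : Y.Opens) (hU : IsAffineOpen U),
      LQ ⟶ (Scheme.Modules.pushforward (RelProj.emb q chartQ U hU)).obj (GrTwist.twist (𝒜.deg U hU) 1))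
    (hLQ : RelProj.IsRelTwist 𝒜 q chartQ 1 LQ lamQ)
    (LP : P.Modules)
    (lamP : ∀ (U : Y.Opens) (hU : IsAffineOpen U),
      LP ⟶ (Scheme.Modules.pushforward (RelProj.emb p chart U hU)).obj (GrTwist.twist (𝒯.deg U hU) 1))
    (hLP : RelProj.IsRelTwist 𝒯 p chart 1 LP lamP) (hA : CohB1.IsAmple LQ) : CohB1.IsAmple LP := by
  obtain ⟨ψ, hψ, -⟩ := hj'.1 𝒯.toQCAlg (π ≫ j)
  have hgr : RelProj.IsGradedHom ψ :=
    isGradedHom_of_deg_one hj' ψ (π ≫ j) hψ fun U hU e => hj.2 U hU _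
  have hsurj : ∀ (U : Y.Opens) (hU : IsAffineOpen U), Function.Surjective (ψ.hom.app (op U)).hom := by
    intro U hU x
    obtain ⟨z, rfl⟩ := (bijective_liftSec hj.1 hU).2 x
    suffices h : liftSec 𝒯.toQCAlg j U z ∈ (ψ.hom.app (op U)).hom.range from h
    induction z using SymmetricAlgebra.induction with
    | algebraMap r => exact ⟨bstr 𝒜.toQCAlg U r, by rw [liftSec_algebraMap, hom_app_str]⟩
    | ι e =>
      obtain ⟨e', rfl⟩ := Groth.QCohMod.app_surjective_of_epi π hU e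
      exact ⟨toB 𝒜.toQCAlg (j'.app U e'), by
        rw [liftSec_ι, hom_app_toModuleMap j' ψ (π ≫ j) hψ]; rfl⟩
    | mul a b ha hb => rw [map_mul]; exact mul_mem ha hb
    | add a b ha hb => rw [map_add]; exact add_mem ha hb
  have hirr : ∀ (U : Y.Opens) (hU : IsAffineOpen U),
      (𝒯.deg U hU)₊ ≤ ((𝒜.deg U hU)₊).map (RelProj.gradedHomAt ψ hgr U hU) := by
    intro U hU
    show ((𝒯.deg U hU)₊).toIdeal ≤ Ideal.map (RelProj.gradedHomAt ψ hgr U hU) ((𝒜.deg U hU)₊).toIdeal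
    rw [HomogeneousIdeal.toIdeal_irrelevant_le]
    intro k hk x hx
    refine mem_of_range_le hj hU (fun e => ?_) hk hx
    obtain ⟨e', rfl⟩ := Groth.QCohMod.app_surjective_of_epi π hU e
    have h := Ideal.mem_map_of_mem (RelProj.gradedHomAt ψ hgr U hU)
      (HomogeneousIdeal.mem_irrelevant_of_mem (𝒜.deg U hU) one_pos (hj'.2 U hU e'))
    rwa [show RelProj.gradedHomAt ψ hgr U hU (toB 𝒜.toQCAlg (j'.app U e')) = toB 𝒯.toQCAlg (j.app U (π.app U e'))
      from hom_app_toModuleMap j' ψ (π ≫ j) hψ U e'] at h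
  obtain ⟨r, hr, -⟩ := Groth.Ega2P2.existsUnique_relProjMap ψ hgr hirr hQ hP
  have hrc : IsClosedImmersion r := Groth.Agent.S8292.result 𝒯 𝒜 (isGenDegOne hj) F ‹F.IsQuasicoherent› (π ≫ j)
    (fun U hU e => hj.2 U hU _) (fun U hU s hs => by
      obtain ⟨e, rfl⟩ := Groth.Ega2Proj.exists_eq_of_deg_one hj hU hs
      obtain ⟨e', rfl⟩ := Groth.QCohMod.app_surjective_of_epi π hU e
      exact ⟨e', rfl⟩)
    j' hj' ψ hgr hψ hirr q p chartQ chart hQ hP r hr
  obtain ⟨iso⟩ := Groth.Agent.S8287.result ψ hgr (isGenDegOne hj') hsurj hirr q p chartQ chart hQ hP r hr 1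
    LQ lamQ hLQ LP lamP hLP
  have : CompactSpace Q := hA.2.1
  have : CompactSpace P := r.isClosedEmbedding.compactSpace
  exact Groth.Ega2Proj.isAmple_of_iso iso
    (Groth.Ega2Proj.isAmple_pullback r r.isClosedEmbedding.isInducing hA)

end Groth.Misc5Fact
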